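import Cfsg.Agent.H851.Rl.Tools
import Cfsg.Agent.H2.Rl.Num
import Cfsg.Agent.H592.Rl.Classes9
import Cfsg.Agent.H788.Rl.Low
import Cfsg.Agent.H95.Rl.RedA
import Cfsg.Agent.H803.Rl.UNot
import Cfsg.Agent.H813.Rl.ExtSq
import Cfsg.Agent.H294.Rl.Size

/-!
# S3691, row `PSL_n(q)`: the main reduction for `n ≥ 10`, good numbers (helper851)

`red_big` : in an exact factorization with socle `PSL_n(q)`, `n ≥ 10`, one of the factors fixes a point (for a suitable
identification) and induces at least `SL_(n-1)(q)` on the quotient, if `q^n - 1` and `q^(n-1) - 1` have large primitive prime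
powers.
-/

set_option autoImplicit false
set_option linter.unusedSectionVars false

namespace Cfsg.Agent.H851.Rl

open Cfsg Cfsg.Geo Module Matrix Cfsg.Agent.H728.DghpNum Cfsg.Agent.H454.Reg
open Cfsg.Agent.H2.Rl (num_even num_ten num_odd ext_le_even ext_le_odd)
open Cfsg.Agent.H592.Rl (classes9)
open scoped MatrixGroups

universe u

section bounds

variable {ι : Type} [Fintype ι] [DecidableEq ι] {F : Type} [Field F] [Fintype F] {R : Subgroup (GL ι F)} {k : ℕ}

theorem out_even (hn : Even (Fintype.card ι)) (h10 : 10 ≤ Fintype.card ι) (hU : ¬ Uni R) (h : Out k R) :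
    Nat.card R ≤ Fintype.card F ^ (Fintype.card ι * (Fintype.card ι + 1) / 2 + 1) := by
  have hι : Nonempty ι := Fintype.card_pos_iff.1 (by omega)
  have hq : 2 ≤ Fintype.card F := Fintype.one_lt_card
  rcases h with ⟨s, K, hs, hsn, -, hK, hle⟩ | ⟨-, -, g, hg, hle⟩ | ⟨-, Q, hQ, hle⟩ | ⟨-, σ, g, hg, hle⟩
  · exact ((Subgroup.card_le_of_le hle).trans (Cfsg.Agent.H951.Rl.card_ext_le hs hK)).trans (ext_le_even hq hs hsn hn h10)
  · exact (Subgroup.card_le_of_le hle).trans (Cfsg.Agent.H951.Rl.card_sim_le hg)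
  · refine ((Subgroup.card_le_of_le hle).trans (Cfsg.Agent.H951.Rl.card_qsim_le hQ)).trans ?_
    generalize Fintype.card ι = n at *
    calc 2 * Fintype.card F ^ (n * (n - 1) / 2 + 1) ≤ Fintype.card F * Fintype.card F ^ (n * (n - 1) / 2 + 1) :=
          Nat.mul_le_mul_right _ hq
      _ = Fintype.card F ^ (n * (n - 1) / 2 + 1 + 1) := by rw [pow_succ']; ring
      _ ≤ _ := Nat.pow_le_pow_right (by omega) (by
          have h1 : n * (n + 1) = n * (n - 1) + 2 * n := by
            obtain ⟨m, rfl⟩ : ∃ m, n = m + 1 := ⟨n - 1, by omega⟩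
            simp; ring
          rw [h1]
          omega)
  · exact absurd ⟨σ, g, hg, hle⟩ hU

theorem out_odd (hn : Odd (Fintype.card ι)) (hk : Odd k) (hU : ¬ Uni R) (h : Out k R) :
    Nat.card R ≤ Fintype.card ι * Fintype.card F ^ (Fintype.card ι ^ 2 / 3) := by
  have hι : Nonempty ι := Fintype.card_pos_iff.1 hn.pos
  have hq : 2 ≤ Fintype.card F := Fintype.one_lt_card
  rcases h with ⟨s, K, hs, hsn, -, hK, hle⟩ | ⟨h1, -⟩ | ⟨h1, -⟩ | ⟨-, σ, g, hg, hle⟩
  · exact ((Subgroup.card_le_of_le hle).trans (Cfsg.Agent.H951.Rl.card_ext_le hs hK)).trans (ext_le_odd hq hs hsn hn)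
  · exact absurd h1 (Nat.not_even_iff_odd.2 hk)
  · exact absurd h1 (Nat.not_even_iff_odd.2 hk)
  · exact absurd ⟨σ, g, hg, hle⟩ hU

theorem uni_not {p f₀ r k' : ℕ} (hF : Fintype.card F = p ^ (2 * f₀)) (hr : r.Prime)
    (hord : orderOf ((p ^ f₀ : ℕ) : ZMod r) = k') (hodd : Odd k') (hk : Fintype.card ι < 2 * k') (hn : 2 ≤ Fintype.card ι)
    (hU : Uni R) : ¬ r ∣ Nat.card R := by
  obtain ⟨σ, g, hg, hle⟩ := hU
  intro h
  exact Cfsg.Agent.H803.Rl.u_not2 hg (q₀ := p ^ f₀) (by rw [hF, ← pow_mul, mul_comm]) hr hord hodd hk hn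
    (h.trans (Subgroup.card_dvd_of_le hle))

end bounds

/-- **two primes.** -/
theorem both (G0 : GPPS) {n : ℕ} {F : Type} [Field F] [Fintype F] {p f k k' r a r' : ℕ} (hF : Fintype.card F = p ^ f)
    (hn : 10 ≤ n) (h : Big p f k r a) (hk : n < 2 * k) (hkn : k ≤ n) (hP' : Ppd (Fintype.card F) k' r') (hk' : n < 2 * k')
    (hkn' : k' ≤ n) (hkk : k + k' = 2 * n - 1) (hU : Odd k' ∨ orderOf ((p : ℕ) : ZMod r') = f * k')
    {R : Subgroup (GL (Fin n) F)} (hR : r ^ a ∣ Nat.card R) (hR' : r' ∣ Nat.card R) (hsq : r' = n → r' ^ 2 ∣ Nat.card R)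
    (hne : ¬ specialLinear (Fin n) F ≤ R) : False := by
  have hne' : Nonempty (Fin n) := ⟨⟨0, by omega⟩⟩
  have hr : r ∣ Nat.card R := (dvd_pow_self r (by have := h.a_pos; omega)).trans hR
  have hP : Ppd (Fintype.card F) k r := ppd_of h.hp h.hf hF h.prime h.ord h.hk
  have hirr : ActsIrreducibly (matrixSet R) := by
    rcases (by omega : k = n ∨ k' = n) with h1 | h1
    · exact Cfsg.Agent.H95.Rl.irr_of (by rw [Fintype.card_fin, ← h1]; exact hP) hr
    · exact Cfsg.Agent.H95.Rl.irr_of (by rw [Fintype.card_fin, ← h1]; exact hP') hR'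
  have hc : Fintype.card (Fin n) = n := Fintype.card_fin n
  rcases list10 G0 hF h (by omega) (by omega) hR hirr hne with
    ⟨s, K, hs, hsn, hsk, hK, hle⟩ | ⟨h1, -, g, hg, hle⟩ | ⟨h1, Q, hQ, hle⟩ | ⟨h1, σ, g, hg, hle⟩
  · rw [hc] at hsn
    have hk1 : ¬ s ∣ k' := by
      intro h2
      have h3 : s ∣ 2 * n - 1 := hkk ▸ dvd_add hsk h2
      have h4 : s ∣ 2 * n - (2 * n - 1) := Nat.dvd_sub (dvd_mul_of_dvd_right hsn 2) h3
      rw [show 2 * n - (2 * n - 1) = 1 by omega] at h4
      exact hs.one_lt.ne' (Nat.dvd_one.1 h4)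
    rcases ext_dvd' hs hP' (by omega) (by omega) hK hle hR' with h2 | h2
    · have h3 : k' < r' := hP'.lt
      have h4 : s ≤ n := Nat.le_of_dvd (by omega) hsn
      have h5 : r' = n := by omega
      have h6 : k' + 1 = n := by omega
      have hsn' : s = n := by omega
      subst hsn'
      have h7 := hsq h5
      rw [h5] at h7
      refine Cfsg.Agent.H813.Rl.ext_sq hs (by rw [hc]) (by omega) hK ?_ (h7.trans (Subgroup.card_dvd_of_le hle))
      have h8 := hP'.ord
      rw [h5] at h8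
      omega
    · exact hk1 h2
  · have h2 := sim_even hP' (by omega) (by omega) hR' hg.bilinear hg.nondegenerate hle
    have h3 : Even (2 * n - 1) := hkk ▸ h1.add h2
    obtain ⟨m, hm⟩ := h3
    omega
  · have h2 := qsim_even hP' (by omega) (by omega) hR' hQ hle
    have h3 : Even (2 * n - 1) := hkk ▸ h1.add h2
    obtain ⟨m, hm⟩ := h3
    omega
  · have h2 : Odd k' := by
      rcases hU with h2 | h2
      · exact h2
      · exact uni_odd h.hp hF hP'.prime h2 (by omega) (by omega) hR' hg hle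
    obtain ⟨m, hm⟩ := h1.add_odd h2
    omega

/-! ### the intersection with `SL` -/

theorem card_inf_sl_mul {n : ℕ} {F : Type} [Field F] [Fintype F] (S : Subgroup (GL (Fin n) F)) :
    Nat.card S ∣ (Fintype.card F - 1) * Nat.card (S ⊓ specialLinear (Fin n) F : Subgroup (GL (Fin n) F)) := by
  let φ : S →* Fˣ := Matrix.GeneralLinearGroup.det.comp S.subtype
  have h1 : Nat.card φ.ker * Nat.card φ.range = Nat.card S := by
    have := φ.ker.card_mul_index
    rwa [Subgroup.index_ker] at this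
  have h2 : Nat.card φ.range ∣ Fintype.card F - 1 := by
    have := Subgroup.card_subgroup_dvd_card φ.range
    rwa [Nat.card_units, Nat.card_eq_fintype_card (α := F)] at this
  have h3 : Nat.card φ.ker = Nat.card (S ⊓ specialLinear (Fin n) F : Subgroup (GL (Fin n) F)) := by
    have h4 : φ.ker = (specialLinear (Fin n) F).subgroupOf S := rfl
    rw [h4, ← Subgroup.inf_subgroupOf_left,
      Nat.card_congr (Subgroup.subgroupOfEquivOfLe (inf_le_left : S ⊓ specialLinear (Fin n) F ≤ S)).toEquiv]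
  rw [← h1, h3, mul_comm]
  exact Nat.mul_dvd_mul_right h2 _

section main

variable {G : Type u} [Group G] [Finite G] {T : Subgroup G} {m : ℕ} {F : Type} [Field F] [Fintype F]

set_option maxHeartbeats 1000000 in
theorem red_big_aux (G0 : GPPS) {X Y : Subgroup G} (h : Fac T X Y) (hm : 9 ≤ m)
    (e : T ≃* Matrix.ProjectiveSpecialLinearGroup (Fin (m + 1)) F) {p f : ℕ} (hF : Fintype.card F = p ^ f) {r r' : ℕ}
    (h1 : Big p f (m + 1) r (((p ^ f) ^ (m + 1) - 1).factorization r))
    (h2 : Big p f m r' (((p ^ f) ^ m - 1).factorization r'))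
    (hX : r ^ ((p ^ f) ^ (m + 1) - 1).factorization r ∣ Nat.card (pg e X)) :
    ∃ (e' : T ≃* Matrix.ProjectiveSpecialLinearGroup (Fin (m + 1)) F) (v : Fin (m + 1) → F),
      Pt (pg e' X) v ∨ Pt (pg e' Y) v := by
  classical
  have hp := h1.hp
  have hf := h1.hf
  have hq : 2 ≤ Fintype.card F := Fintype.one_lt_card
  have hc : Fintype.card (Fin (m + 1)) = m + 1 := Fintype.card_fin _
  have hc' : Fintype.card (Fin m) = m := Fintype.card_fin _
  have hP : Ppd (Fintype.card F) (m + 1) r := ppd_of hp hf hF h1.prime h1.ord h1.hk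
  have hP' : Ppd (Fintype.card F) m r' := ppd_of hp hf hF h2.prime h2.ord h2.hk
  have hrX : r ∣ Nat.card (pg e X) := (dvd_pow_self r (by have := h1.a_pos; omega)).trans hX
  have hnX := not_sl_le e h.not_le_left
  have hnY := not_sl_le e h.not_le_right
  have hr'f : ¬ r' ∣ 2 * f := by
    intro hd
    have h3 := Nat.le_of_dvd (by omega) hd
    have h4 : f * m < r' := by
      have h5 : Ppd p (f * m) r' := by
        refine ⟨h2.prime, h2.ord, fun h6 => ?_⟩
        exact h2.not_dvd_q (h6.trans (dvd_pow_self p (by omega)))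
      exact h5.lt
    have h5 : f * 9 ≤ f * m := Nat.mul_le_mul_left _ hm
    omega
  have hBr' : 2 ≤ ((p ^ f) ^ m - 1).factorization r' ∨ r' ≠ m + 1 := by
    by_contra hcon
    push Not at hcon
    have h3 := h2.big
    have h4 : r' ^ ((p ^ f) ^ m - 1).factorization r' ≤ r' ^ 1 := Nat.pow_le_pow_right h2.prime.pos (by omega)
    rw [pow_one] at h4
    omega
  -- the second prime divides `|Y|`
  have hY : r' ^ ((p ^ f) ^ m - 1).factorization r' ∣ Nat.card (pg e Y) := by
    rcases Cfsg.Agent.H815.Rl.side h (by omega) e hp hF h2.prime hP'.ord (by omega) (by omega) hr'f with h3 | h3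
    · exfalso
      rw [hF] at h3
      refine both G0 hF (by omega) h1 (by omega) (by omega) hP' (by omega) (by omega) (by omega) (Or.inr h2.ord) hX
        ((dvd_pow_self r' (by have := h2.a_pos; omega)).trans h3.1) (fun h4 => ?_) hnX
      rcases hBr' with h5 | h5
      · exact (pow_dvd_pow _ h5).trans h3.1
      · exact absurd h4 h5
    · rw [hF] at h3
      exact h3.1
  have hr'Y : r' ∣ Nat.card (pg e Y) := (dvd_pow_self r' (by have := h2.a_pos; omega)).trans hY
  -- the prime `r''`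
  have kill1 : ∀ f₀, f = 2 * f₀ → Odd (m + 1) → ∃ r'' : ℕ, r''.Prime ∧ orderOf ((p ^ f₀ : ℕ) : ZMod r'') = m + 1 ∧
      r'' ∣ Nat.card (pg e X) := by
    intro f₀ hf₀ hodd
    obtain ⟨r'', h3, h4, h5, h6 | h6⟩ := kill h (by omega) e (f₀ := f₀) (k := m + 1) hp (by rw [hF, hf₀]) (by omega) (by omega)
      hodd (fun h6 => by
        obtain ⟨w, hw⟩ := hodd
        have h7 : f₀ ≠ 0 := by omega
        have h8 : f₀ * 10 ≤ f₀ * (m + 1) := Nat.mul_le_mul_left _ (by omega)
        omega)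
    · exact ⟨r'', h3, h4, h6⟩
    · exfalso
      refine both G0 hF (by omega) h2 (by omega) (by omega) h5 (by omega) (by omega) (by omega) (Or.inl hodd) hY
        h6 (fun h7 => ?_) hnY
      have := h5.lt
      omega
  have kill2 : ∀ f₀, f = 2 * f₀ → Odd m → ∃ r'' : ℕ, r''.Prime ∧ orderOf ((p ^ f₀ : ℕ) : ZMod r'') = m ∧
      Ppd (Fintype.card F) m r'' ∧ r'' ∣ Nat.card (pg e Y) := by
    intro f₀ hf₀ hodd
    obtain ⟨r'', h3, h4, h5, h6 | h6⟩ := kill h (by omega) e (f₀ := f₀) (k := m) hp (by rw [hF, hf₀]) (by omega) (by omega)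
      hodd (fun h6 => by
        have h7 : f₀ ≠ 0 := by omega
        have h8 : f₀ * 9 ≤ f₀ * m := Nat.mul_le_mul_left _ (by omega)
        omega)
    · exfalso
      refine both G0 hF (by omega) h1 (by omega) (by omega) h5 (by omega) (by omega) (by omega) (Or.inl hodd) hX
        h6 (fun h7 => ?_) hnX
      subst h7
      obtain ⟨w, hw⟩ := hodd
      have : Even (m + 1) := ⟨w + 1, by omega⟩
      have := (h3.eq_two_or_odd').resolve_right (Nat.not_odd_iff_even.2 this)
      omega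
    · exact ⟨r'', h3, h4, h5, h6⟩
  -- `X` is not unitary
  have hUX : ¬ Uni (pg e X) := by
    intro hU
    obtain ⟨σ, g, hg, hle⟩ := hU
    obtain ⟨-, f₀, hf₀, -⟩ := exists_half hp hF hg.ne_refl hg.involutive
    have hodd : Odd (m + 1) := uni_odd hp hF h1.prime h1.ord (by omega) (by omega) hrX hg hle
    obtain ⟨r'', h3, h4, h5⟩ := kill1 f₀ hf₀ hodd
    exact uni_not (by rw [hF, hf₀]) h3 h4 hodd (by omega) (by omega) ⟨σ, g, hg, hle⟩ h5
  have hUY : ¬ Uni (pg e Y) := by
    intro hU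
    obtain ⟨σ, g, hg, hle⟩ := hU
    obtain ⟨-, f₀, hf₀, -⟩ := exists_half hp hF hg.ne_refl hg.involutive
    have hodd : Odd m := uni_odd hp hF h2.prime h2.ord (by omega) (by omega) hr'Y hg hle
    obtain ⟨r'', h3, h4, -, h5⟩ := kill2 f₀ hf₀ hodd
    exact uni_not (by rw [hF, hf₀]) h3 h4 hodd (by omega) (by omega) ⟨σ, g, hg, hle⟩ h5
  -- the order of `X`
  have hoX : Out (m + 1) (pg e X) :=
    list10 G0 hF h1 (by omega) (by omega) hX (Cfsg.Agent.H95.Rl.irr_of (by rw [hc]; exact hP) hrX) hnX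
  have hX1 : Even (m + 1) → Nat.card (pg e X) ≤ Fintype.card F ^ ((m + 1) * (m + 1 + 1) / 2 + 1) := fun hev => by
    have := out_even (by rwa [hc]) (by omega) hUX hoX
    rwa [hc] at this
  have hX2 : Odd (m + 1) → Nat.card (pg e X) ≤ (m + 1) * Fintype.card F ^ ((m + 1) ^ 2 / 3) := fun hod => by
    have := out_odd (by rwa [hc]) hod hUX hoX
    rwa [hc] at this
  have hmain : Fintype.card F ^ ((m + 1) ^ 2 - 1) ≤ 4 * f * (Nat.card (pg e X) * Nat.card (pg e Y)) := by
    have h3 := Cfsg.Agent.H815.Rl.card_le_pg h (by omega) e hp hF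
    have h4 := Cfsg.Agent.H294.Rl.sl_ge (F := F) (n := m + 1) (by omega)
    calc _ ≤ 2 * Nat.card (specialLinear (Fin (m + 1)) F) := h4
      _ ≤ 2 * (2 * f * Nat.card (pg e X) * Nat.card (pg e Y)) := Nat.mul_le_mul_left _ h3
      _ = _ := by ring
  have hsz := (Cfsg.Agent.H294.Rl.q_ge h (by omega) e).2.2.2.2.2.2.2
  -- the bound for `Y` for odd dimension
  have fin_odd : Odd (m + 1) → Nat.card (pg e Y) ≤ Fintype.card F ^ (((m + 1) ^ 2 + (m + 1)) / 2) → False := by
    intro hod h3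
    have h11 : 11 ≤ m + 1 := by
      obtain ⟨w, hw⟩ := hod
      omega
    have h4 := num_odd hF hp.two_le hf hod h11
    exact absurd (hmain.trans (Nat.mul_le_mul_left _ (Nat.mul_le_mul (hX2 hod) h3))) (not_le.2 h4)
  have fin_even : Even (m + 1) → Nat.card (pg e Y) ≤ Fintype.card F ^ (m + 1 - 1) * ((m + 1 - 1) * Fintype.card F ^ ((m + 1 - 1) ^ 2 / 3)) →
      False := by
    intro hev h3
    have h4 := num_even hF hp.two_le hf hev (by omega) hsz
    exact absurd (hmain.trans (Nat.mul_le_mul_left _ (Nat.mul_le_mul (hX1 hev) h3))) (not_le.2 h4)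
  by_cases hirr : ActsIrreducibly (matrixSet (pg e Y))
  · exfalso
    rcases list10 G0 hF h2 (by omega) (by omega) hY hirr hnY with
      ⟨s, K, hs, hsn, hsk, hK, hle⟩ | ⟨h3, h4, -⟩ | ⟨h3, Q, hQ, hle⟩ | ⟨-, σ, g, hg, hle⟩
    · rw [hc] at hsn
      have h3 : s ∣ m + 1 - m := Nat.dvd_sub hsn hsk
      rw [show m + 1 - m = 1 by omega] at h3
      exact hs.one_lt.ne' (Nat.dvd_one.1 h3)
    · rw [hc] at h4
      obtain ⟨a, ha⟩ := h3
      obtain ⟨b, hb⟩ := h4
      omega
    · have hod : Odd (m + 1) := h3.add_one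
      apply fin_odd hod
      have h4 := (Subgroup.card_le_of_le hle).trans (Cfsg.Agent.H951.Rl.card_qsim_le hQ)
      rw [hc] at h4
      refine h4.trans ?_
      calc 2 * Fintype.card F ^ ((m + 1) * (m + 1 - 1) / 2 + 1) ≤ Fintype.card F * Fintype.card F ^ ((m + 1) * (m + 1 - 1) / 2 + 1) :=
            Nat.mul_le_mul_right _ hq
        _ = Fintype.card F ^ ((m + 1) * (m + 1 - 1) / 2 + 1 + 1) := by rw [pow_succ']; ring
        _ ≤ _ := Nat.pow_le_pow_right (by omega) (by
            have h1 : (m + 1) ^ 2 + (m + 1) = (m + 1) * (m + 1 - 1) + 2 * (m + 1) := by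
              simp; ring
            rw [h1]
            omega)
    · exact hUY ⟨σ, g, hg, hle⟩
  · obtain ⟨e', v, hv, hfix, hcard⟩ : ∃ (e' : T ≃* Matrix.ProjectiveSpecialLinearGroup (Fin (m + 1)) F) (v : Fin (m + 1) → F),
        v ≠ 0 ∧ (∀ x ∈ pg e' Y, ∃ c : F, (x : Matrix (Fin (m + 1)) (Fin (m + 1)) F) *ᵥ v = c • v) ∧
        ∀ Z : Subgroup G, Nat.card (pg e' Z) = Nat.card (pg e Z) := by
      rcases Cfsg.Agent.H95.Rl.red_of hP' hr'Y hirr with ⟨v, hv, h3⟩ | ⟨W, hW, h3⟩
      · exact ⟨e, v, hv, h3, fun _ => rfl⟩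
      · exact point_of (by omega) e Y (Or.inr hW) h3
    by_cases hPt : Pt (pg e' Y) v
    · exact ⟨e', v, Or.inr hPt⟩
    exfalso
    obtain ⟨S, hS1, hS2, hS3⟩ := block_card hv (pg_le e' Y) hfix hPt
    rw [hcard] at hS2
    have hS4 : r' ^ ((p ^ f) ^ m - 1).factorization r' ∣ Nat.card S :=
      hS3 _ _ h2.prime hP'.ndvd (by rw [hcard]; exact hY)
    have hS5 : r' ∣ Nat.card S := (dvd_pow_self r' (by have := h2.a_pos; omega)).trans hS4
    have hS6 : ∀ r'', r''.Prime → Ppd (Fintype.card F) m r'' → r'' ∣ Nat.card (pg e Y) → r'' ∣ Nat.card S := by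
      intro r'' h3 h4 h5
      have := hS3 r'' 1 h3 h4.ndvd (by rw [pow_one, hcard]; exact h5)
      rwa [pow_one] at this
    rcases Nat.lt_or_ge m 10 with hm9 | hm10
    · -- `m = 9`
      obtain rfl : m = 9 := by omega
      have hdv := card_inf_sl_mul S
      have hle1 : Nat.card S ≤ (Fintype.card F - 1) * Nat.card (S ⊓ specialLinear (Fin 9) F : Subgroup (GL (Fin 9) F)) :=
        Nat.le_of_dvd (Nat.mul_pos (by omega) Nat.card_pos) hdv
      have hno : ∀ r'' : ℕ, Ppd (Fintype.card F) 9 r'' → r'' ∣ Nat.card S →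
          r'' ∣ Nat.card (S ⊓ specialLinear (Fin 9) F : Subgroup (GL (Fin 9) F)) := by
        intro r'' h3 h4
        rcases (h3.prime.dvd_mul).1 (h4.trans hdv) with h5 | h5
        · exfalso
          have h6 := (h3.dvd_iff 1).1 (by rwa [pow_one])
          have := Nat.le_of_dvd one_pos h6
          omega
        · exact h5
      have hev : Even (9 + 1) := by decide
      rcases classes9 (by norm_num) le_rfl (by norm_num) le_rfl hp hF h2.prime h2.ord (inf_le_right : S ⊓ specialLinear (Fin 9) F ≤ _)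
        (fun h3 => hS1 (h3.trans inf_le_left)) (hno r' hP' hS5) with
        ⟨h3, -⟩ | (⟨s, K, hs, hsn, -, hK, hle⟩ | ⟨h3, -⟩ | ⟨h3, -⟩ | ⟨-, σ, g, hg, hle⟩) | ⟨h3, -⟩ | ⟨h3, -⟩ | ⟨H, hH1, hH2, hH3⟩
      · omega
      · rw [hc'] at hsn
        apply fin_even hev
        refine hS2.trans (Nat.mul_le_mul_left _ (hle1.trans ?_))
        have h4 : Nat.card (S ⊓ specialLinear (Fin 9) F : Subgroup (GL (Fin 9) F)) ≤
            Nat.card (subalgebraNormalizer K ⊓ specialLinear (Fin 9) F : Subgroup (GL (Fin 9) F)) :=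
          Subgroup.card_le_of_le (le_inf hle inf_le_right)
        have h5 := Cfsg.Agent.H813.Rl.card_ext_sl hs (by rw [hc']; exact hsn) hK
        rw [hc'] at h5
        exact ((Nat.mul_le_mul_left _ h4).trans h5).trans (ext_le_odd hq hs hsn (by decide))
      · exact absurd h3 (by decide)
      · exact absurd h3 (by decide)
      · obtain ⟨-, f₀, hf₀, -⟩ := exists_half hp hF hg.ne_refl hg.involutive
        obtain ⟨r'', h3, h4, h5, h6⟩ := kill2 f₀ hf₀ (by decide)
        exact uni_not (by rw [hF, hf₀]) h3 h4 (by decide) (by rw [hc']; norm_num) (by rw [hc']; norm_num) ⟨σ, g, hg, hle⟩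
          (hno r'' h5 (hS6 r'' h3 h5 h6))
      · omega
      · omega
      · have h3 : r' ∣ Nat.card H := (hno r' hP' hS5).trans (Subgroup.card_dvd_of_le hH2)
        have h4 : Nat.card H ≤ 235146240 :=
          Cfsg.Agent.H788.Rl.res_low_ppd (by norm_num) le_rfl hH1 hH3 (by norm_num) le_rfl h2.prime hp hF h2.ord h3
        have h6 : Nat.card S ≤ (Fintype.card F - 1) * 235146240 :=
          hle1.trans (Nat.mul_le_mul_left _ ((Subgroup.card_le_of_le hH2).trans h4))
        have h7 := num_ten hF hp.two_le hf (hsz rfl)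
        have h8 : Nat.card (pg e X) ≤ Fintype.card F ^ 56 := hX1 hev
        have h9 : Nat.card (pg e Y) ≤ Fintype.card F ^ 9 * ((Fintype.card F - 1) * 235146240) :=
          hS2.trans (Nat.mul_le_mul_left _ h6)
        have h10 : Fintype.card F ^ 99 ≤ 4 * f * (Fintype.card F ^ 56 * (Fintype.card F ^ 9 * ((Fintype.card F - 1) * 235146240))) :=
          hmain.trans (Nat.mul_le_mul_left _ (Nat.mul_le_mul h8 h9))
        exact absurd h10 (not_le.2 h7)
    · have hirrS : ActsIrreducibly (matrixSet S) := Cfsg.Agent.H95.Rl.irr_of (by rw [hc']; exact hP') hS5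
      have hoS := list10 G0 hF h2 (by omega) (by omega) hS4 hirrS hS1
      have hUS : ¬ Uni S := by
        intro hU
        obtain ⟨σ, g, hg, hle⟩ := hU
        have hne' : Nonempty (Fin m) := ⟨⟨0, by omega⟩⟩
        obtain ⟨-, f₀, hf₀, -⟩ := exists_half hp hF hg.ne_refl hg.involutive
        have hodd : Odd m := uni_odd hp hF h2.prime h2.ord (by omega) (by omega) hS5 hg hle
        obtain ⟨r'', h3, h4, h5, h6⟩ := kill2 f₀ hf₀ hodd
        exact uni_not (by rw [hF, hf₀]) h3 h4 hodd (by omega) (by omega) ⟨σ, g, hg, hle⟩ (hS6 r'' h3 h5 h6)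
      rcases Nat.even_or_odd m with hev | hod
      · apply fin_odd hev.add_one
        refine hS2.trans ?_
        have h3 := out_even (by rwa [hc']) (by omega) hUS hoS
        rw [hc'] at h3
        refine (Nat.mul_le_mul_left _ h3).trans ?_
        rw [← pow_add]
        refine Nat.pow_le_pow_right (by omega) ?_
        have h4 : (m + 1) ^ 2 + (m + 1) = m * (m + 1) + 2 * (m + 1) := by ring
        rw [h4]
        omega
      · apply fin_even hod.add_one
        have h3 := out_odd (by rwa [hc']) hod hUS hoS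
        rw [hc'] at h3
        exact hS2.trans (Nat.mul_le_mul_left _ h3)

/-- **the main reduction, `n ≥ 10`, good numbers** -/
theorem red_big (G0 : GPPS) {n : ℕ} {X Y : Subgroup G} (h : Fac T X Y) (hn : 10 ≤ n)
    (e : T ≃* Matrix.ProjectiveSpecialLinearGroup (Fin n) F) {p f : ℕ} (hF : Fintype.card F = p ^ f)
    (h1 : ∃ r, Big p f n r (((p ^ f) ^ n - 1).factorization r))
    (h2 : ∃ r, Big p f (n - 1) r (((p ^ f) ^ (n - 1) - 1).factorization r)) :
    ∃ (e' : T ≃* Matrix.ProjectiveSpecialLinearGroup (Fin n) F) (v : Fin n → F), Pt (pg e' X) v ∨ Pt (pg e' Y) v := by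
  obtain ⟨m, rfl⟩ : ∃ m, n = m + 1 := ⟨n - 1, by omega⟩
  obtain ⟨r, h1⟩ := h1
  obtain ⟨r', h2⟩ := h2
  rw [Nat.add_sub_cancel] at h2
  have hP : Ppd (Fintype.card F) (m + 1) r := ppd_of h1.hp h1.hf hF h1.prime h1.ord h1.hk
  have hrf : ¬ r ∣ 2 * f := by
    intro hd
    have hf := h1.hf
    have h3 := Nat.le_of_dvd (by omega) hd
    have h4 : f * (m + 1) < r := by
      have h5 : Ppd p (f * (m + 1)) r := by
        refine ⟨h1.prime, h1.ord, fun h6 => ?_⟩
        exact h1.not_dvd_q (h6.trans (dvd_pow_self p (by omega)))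
      exact h5.lt
    have h5 : f * 10 ≤ f * (m + 1) := Nat.mul_le_mul_left _ hn
    omega
  rcases Cfsg.Agent.H815.Rl.side h (by omega) e h1.hp hF h1.prime hP.ord (by omega) le_rfl hrf with h3 | h3
  · rw [hF] at h3
    exact red_big_aux G0 h (by omega) e hF h1 h2 h3.1
  · rw [hF] at h3
    obtain ⟨e', v, h4⟩ := red_big_aux G0 h.symm (by omega) e hF h1 h2 h3.1
    exact ⟨e', v, h4.symm⟩

end main

end Cfsg.Agent.H851.Rl
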