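import Cfsg.Agent.H848.Rl.Red21
import Cfsg.Agent.H592.Rl.Classes9
import Cfsg.Agent.H788.Rl.Tab
import Cfsg.Agent.H803.Rl.UNot
import Cfsg.Agent.H851.Rl.RedBig

/-!
# S3691, row `PSL_n(q)`: PSL-16d, `(q, n) = (4, 10)` (helper851)
-/

set_option autoImplicit false

namespace Cfsg.Agent.H851.Rl

open Cfsg Cfsg.Geo Matrix Module Cfsg.Agent.H454.Reg
open Cfsg.Agent.H95.Rl (irr_of red_of)
open Cfsg.Agent.H848.Rl (side' point_of_red)
open Cfsg.Agent.H728.DghpNum (Ppd)
open scoped MatrixGroups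

universe u

namespace R410

variable {F : Type} [Field F] [Fintype F]

theorem big410 : Big 2 2 10 41 1 where
  hp := Nat.prime_two
  prime := by norm_num
  ord := H951.Rl.ord_of_prim le_rfl (by norm_num) (by norm_num)
    (by intro i h1 h2; interval_cases i <;> norm_num)
  hf := by norm_num
  hk := by norm_num
  dvd := by norm_num
  big := by norm_num

theorem big47 : Big 2 2 7 43 1 where
  hp := Nat.prime_two
  prime := by norm_num
  ord := H951.Rl.ord_of_prim le_rfl (by norm_num) (by norm_num)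
    (by intro i h1 h2; interval_cases i <;> norm_num)
  hf := by norm_num
  hk := by norm_num
  dvd := by norm_num
  big := by norm_num

theorem ppd_big {k r a : ℕ} (hF : Fintype.card F = 4) (h : Big 2 2 k r a) : Ppd (Fintype.card F) k r :=
  ppd_of Nat.prime_two (by norm_num) (by rw [hF]; norm_num) h.prime h.ord h.hk

theorem ord19 : orderOf ((2 : ℕ) : ZMod 19) = 2 * 9 :=
  H951.Rl.ord_of_prim le_rfl (by norm_num) (by norm_num)
    (by intro i h1 h2; interval_cases i <;> norm_num)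

theorem ppd19 (hF : Fintype.card F = 4) : Ppd (Fintype.card F) 9 19 :=
  ppd_of Nat.prime_two (f := 2) (by norm_num) (by rw [hF]; norm_num) (by norm_num) ord19 (by norm_num)

theorem ord73 : orderOf ((2 : ℕ) : ZMod 73) = 9 :=
  H951.Rl.ord_of_prim le_rfl (by norm_num) (by norm_num)
    (by intro i h1 h2; interval_cases i <;> norm_num)

theorem ppd73 (hF : Fintype.card F = 4) : Ppd (Fintype.card F) 9 73 := by
  rw [hF]
  exact ⟨by norm_num, H951.Rl.ord_of_prim (by norm_num) (by norm_num) (by norm_num)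
    (by intro i h1 h2; interval_cases i <;> norm_num), by norm_num⟩

/-- no prime of odd degree `7`, `9` -/
theorem no_odd {R : Subgroup (GL (Fin 10) F)} {k u : ℕ} (hk : k = 7 ∨ k = 9) (hP : Ppd (Fintype.card F) k u)
    (hu : 10 < u) (h : Cfsg.Agent.H851.Rl.Out 10 R) : ¬ u ∣ Nat.card R := by
  intro hR
  have hko : Odd k := by rcases hk with rfl | rfl <;> decide
  rcases h with ⟨s, K, h1, h2, h3, h4, h5⟩ | ⟨-, -, g, hg, hle⟩ | ⟨-, Q, hQ, hle⟩ | ⟨h1, -⟩
  · have hs : s ≤ 10 := Nat.le_of_dvd (by norm_num) h3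
    rcases ext_dvd' h1 hP (by omega) (by rw [Fintype.card_fin]; omega) h4 h5 hR with h6 | h6
    · omega
    · have h7 : s ∣ 1 := by
        rcases hk with rfl | rfl
        · have h8 : s ∣ 7 * 3 - 10 * 2 := Nat.dvd_sub (h6.mul_right 3) (h3.mul_right 2)
          exact h8
        · have h8 : s ∣ 10 - 9 := Nat.dvd_sub h3 h6
          exact h8
      exact h1.one_lt.ne' (Nat.dvd_one.1 h7)
  · exact absurd (sim_even hP (by omega) (by rw [Fintype.card_fin]; omega) hR hg.bilinear hg.nondegenerate hle)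
      (Nat.not_even_iff_odd.2 hko)
  · exact absurd (qsim_even hP (by omega) (by rw [Fintype.card_fin]; omega) hR hQ hle) (Nat.not_even_iff_odd.2 hko)
  · exact absurd h1 (by decide)

/-- the list lemma, `q = 4` -/
def L4 (F : Type) [Field F] [Fintype F] : Prop :=
  ∀ {R : Subgroup (GL (Fin 10) F)} {k r : ℕ}, Big 2 2 k r 1 → 10 < 2 * k → r ∣ Nat.card R →
    ActsIrreducibly (matrixSet R) → specialLinear (Fin 10) F ≤ R ∨ Cfsg.Agent.H851.Rl.Out k R

/-- the block -/
theorem block9 (hF : Fintype.card F = 4) {S : Subgroup (GL (Fin 9) F)} (h19 : 19 ∣ Nat.card S)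
    (h43 : 43 ∣ Nat.card S) (h73 : 73 ∣ Nat.card S) : specialLinear (Fin 9) F ≤ S := by
  by_contra hS
  have hinf : ∀ {r : ℕ}, r.Prime → 3 < r → r ∣ Nat.card S →
      r ∣ Nat.card (S ⊓ specialLinear (Fin 9) F : Subgroup (GL (Fin 9) F)) := by
    intro r hr hr3 hrS
    have h1 := hrS.trans (card_inf_sl_mul S)
    rw [hF] at h1
    rcases hr.dvd_mul.1 h1 with h2 | h2
    · exact absurd (Nat.le_of_dvd (by norm_num) h2) (by omega)
    · exact h2
  have k19 := hinf (by norm_num) (by norm_num) h19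
  have k43 := hinf (by norm_num) (by norm_num) h43
  have k73 := hinf (by norm_num) (by norm_num) h73
  have hne : ¬ specialLinear (Fin 9) F ≤ S ⊓ specialLinear (Fin 9) F := fun h => hS (h.trans inf_le_left)
  have hF2 : Fintype.card F = 2 ^ 2 := by rw [hF]; norm_num
  rcases Cfsg.Agent.H592.Rl.classes9 (k := 9) (f := 2) (by norm_num) (by norm_num) (by norm_num) (by norm_num) Nat.prime_two hF2
    (by norm_num) ord19 inf_le_right hne k19 with ⟨h1, -⟩ | h1 | ⟨h1, -⟩ | ⟨h1, -⟩ | ⟨H, hH, hle, hc⟩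
  · omega
  · rcases h1 with ⟨s, K, h1, h2, h3, h4, h5⟩ | ⟨h1, -⟩ | ⟨h1, -⟩ | ⟨-, σ, g, hg, hle⟩
    · have hs : s ≤ 9 := Nat.le_of_dvd (by norm_num) h3
      rcases ext_dvd' h1 (ppd_big hF big47) (by norm_num) (by rw [Fintype.card_fin]; norm_num) h4 h5 k43 with h6 | h6
      · omega
      · have h7 : s ∣ 1 := by
          have h8 : s ∣ 7 * 4 - 9 * 3 := Nat.dvd_sub (h6.mul_right 4) (h3.mul_right 3)
          exact h8
        exact h1.one_lt.ne' (Nat.dvd_one.1 h7)
    · exact absurd h1 (by decide)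
    · exact absurd h1 (by decide)
    · exact Cfsg.Agent.H803.Rl.u_not2 hg hF2 (by norm_num) ord73 (by decide) (by rw [Fintype.card_fin]; norm_num)
        (by rw [Fintype.card_fin]; norm_num) (k73.trans (Subgroup.card_dvd_of_le hle))
  · omega
  · omega
  · have h2 := Cfsg.Agent.H788.Rl.res_tab (k := 9) (f := 2) (by norm_num) (by norm_num) hH hc (by norm_num) (by norm_num)
      (by norm_num) Nat.prime_two hF2 ord19 (k19.trans (Subgroup.card_dvd_of_le hle)) (by intro h; omega)
    exact absurd (h2.2.1 (by norm_num)) (by norm_num)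

theorem core {G : Type u} [Group G] [Finite G] {T : Subgroup G} (hF : Fintype.card F = 4) (hL : L4 F)
    {X Y : Subgroup G} (h : Fac T X Y) (e : T ≃* Matrix.ProjectiveSpecialLinearGroup (Fin 10) F)
    (hX : 41 ∣ Nat.card (pg e X)) :
    ∃ (e' : T ≃* Matrix.ProjectiveSpecialLinearGroup (Fin 10) F) (v : Fin 10 → F), Pt (pg e' Y) v := by
  have hF2 : Fintype.card F = 2 ^ 2 := by rw [hF]; norm_num
  have hP10 : Ppd (Fintype.card F) (Fintype.card (Fin 10)) 41 := by rw [Fintype.card_fin]; exact ppd_big hF big410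
  have hO : Cfsg.Agent.H851.Rl.Out 10 (pg e X) := by
    rcases hL big410 (by norm_num) hX (irr_of hP10 hX) with h3 | h3
    · exact absurd h3 (not_sl_le e h.not_le_left)
    · exact h3
  have hY : ∀ {k u : ℕ}, (k = 7 ∨ k = 9) → Ppd (Fintype.card F) k u → 10 < u → u ∣ Nat.card (pg e Y) := by
    intro k u hk hP hu
    rcases side' h (by norm_num) e Nat.prime_two hF2 hP (by omega) (by omega)
      (fun hd => by have := Nat.le_of_dvd (by norm_num) hd; omega) with h4 | h4
    · exact absurd h4.1 (no_odd hk hP hu hO)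
    · exact h4.1
  have h43 := hY (Or.inl rfl) (ppd_big hF big47) (by norm_num)
  have h19 := hY (Or.inr rfl) (ppd19 hF) (by norm_num)
  have h73 := hY (Or.inr rfl) (ppd73 hF) (by norm_num)
  have hred : ¬ ActsIrreducibly (matrixSet (pg e Y)) := by
    intro hirr
    rcases hL big47 (by norm_num) h43 hirr with h3 | h3
    · exact not_sl_le e h.not_le_right h3
    · rcases h3 with ⟨s, K, h1, h2, h3, h4, h5⟩ | ⟨h1, -⟩ | ⟨h1, -⟩ | ⟨-, σ, g, hg, hle⟩
      · rw [Fintype.card_fin] at h2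
        have h7 : s ∣ 7 * 3 - 10 * 2 := Nat.dvd_sub (h3.mul_right 3) (h2.mul_right 2)
        exact h1.one_lt.ne' (Nat.dvd_one.1 h7)
      · exact absurd h1 (by decide)
      · exact absurd h1 (by decide)
      · exact Cfsg.Agent.H803.Rl.u_not2 hg hF2 (by norm_num) ord73 (by decide) (by rw [Fintype.card_fin]; norm_num)
          (by rw [Fintype.card_fin]; norm_num) (h73.trans (Subgroup.card_dvd_of_le hle))
  obtain ⟨e₁, v, hv, hfix, hcard⟩ := point_of_red (m := 9) (by norm_num) e Y (ppd19 hF) h19 hred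
  refine ⟨e₁, v, ?_⟩
  by_contra hno
  obtain ⟨S, hS, -, hS2⟩ := block_card hv (Cfsg.Agent.H851.Rl.pg_le e₁ Y) hfix hno
  have hkS : ∀ {r : ℕ}, r.Prime → ¬ r ∣ Fintype.card F → r ∣ Nat.card (pg e Y) → r ∣ Nat.card S := by
    intro r hr hrF hrY
    have := hS2 r 1 hr hrF (by rw [hcard, pow_one]; exact hrY)
    rwa [pow_one] at this
  exact hS (block9 hF (hkS (by norm_num) (by rw [hF]; norm_num) h19) (hkS (by norm_num) (by rw [hF]; norm_num) h43)
    (hkS (by norm_num) (by rw [hF]; norm_num) h73))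

end R410

/-- **PSL-16d** -/
theorem red_4_10 {G : Type u} [Group G] [Finite G] {T : Subgroup G} {F : Type} [Field F] [Fintype F]
    (hP : H659.CovCore.S5948Stmt.{0}) {X Y : Subgroup G} (h : Fac T X Y)
    (e : T ≃* Matrix.ProjectiveSpecialLinearGroup (Fin 10) F) (hq : Fintype.card F = 4) :
    ∃ (e' : T ≃* Matrix.ProjectiveSpecialLinearGroup (Fin 10) F) (v : Fin 10 → F), Pt (pg e' X) v ∨ Pt (pg e' Y) v := by
  have hF2 : Fintype.card F = 2 ^ 2 := by rw [hq]; norm_num
  have hL : R410.L4 F := by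
    intro R k r hB hn hR hirr
    by_cases h1 : specialLinear (Fin 10) F ≤ R
    · exact Or.inl h1
    · right
      exact list10 (gpps_of hP) hF2 hB (by rw [Fintype.card_fin]) (by rwa [Fintype.card_fin]) (by rwa [pow_one]) hirr h1
  rcases side' h (by norm_num) e Nat.prime_two hF2 (R410.ppd_big hq R410.big410) (by norm_num) (by norm_num)
    (by norm_num) with h4 | h4
  · obtain ⟨e', v, h5⟩ := R410.core hq hL h e h4.1
    exact ⟨e', v, Or.inr h5⟩
  · obtain ⟨e', v, h5⟩ := R410.core hq hL h.symm e h4.1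
    exact ⟨e', v, Or.inl h5⟩

end Cfsg.Agent.H851.Rl
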