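import Cfsg.Agent.H788.Rl.Tab
import Cfsg.Agent.H44.Rl.RedMid

/-!
# S3691, row `PSL_n(q)`: `ResTab` (helper851, from helper788's table)
-/

set_option autoImplicit false

namespace Cfsg.Agent.H851.Rl

open Cfsg Cfsg.Geo Matrix Cfsg.Agent.H788.Rl
open scoped MatrixGroups

theorem res_three {F : Type} [Field F] [Fintype F] {H : Subgroup (GL (Fin 3) F)}
    (hH : IsMaximalIn (specialLinear (Fin 3) F) H) (hS : InLinearResidualClass H) : Nat.card H ≤ 4320 := by
  have hHS : H ≤ specialLinear (Fin 3) F := hH.1.le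
  obtain ⟨P, p', hP, hp', -, ⟨⟨e⟩, hc, -⟩ | ⟨⟨e⟩, hc⟩⟩ := S5776.result H hH hS
  · exact bound' (by norm_num) hP hHS e mulAut_l32 (by norm_num)
  · exact bound' (by norm_num) hP hHS e Cfsg.Agent.H824.ProdLem.card_aut_a6.le (by norm_num)

theorem resTab : Cfsg.Agent.H44.Rl.RedMid.ResTab := by
  intro F _ _ p f n k hn hn9 hk hkn hp hF u hu hord H hH hS hud
  rcases Nat.lt_or_ge n 4 with h3 | h4
  · obtain rfl : n = 3 := by omega
    exact ⟨(res_three hH hS).trans (by simp [C9]), fun h => absurd h (by norm_num)⟩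
  by_cases hun : k + 1 = n → u ≠ n ∨ u ^ 2 ∣ Nat.card H
  · obtain ⟨h1, h2, -, h7, h8⟩ := Cfsg.Agent.H788.Rl.res_tab hn hn9 hH hS hk hkn hu hp hF hord hud hun
    refine ⟨h1.trans ?_, fun h => h2 (by omega)⟩
    obtain rfl | rfl | rfl | rfl : n = 4 ∨ n = 5 ∨ n = 6 ∨ n = 9 := by omega
    · simp [C9, C]
    · by_cases hk5 : k = 5 <;> simp [C9, C, hk5]
    · simp [C9, C]
    · simp [C9, C]
  · push Not at hun
    obtain ⟨h1, h2, -⟩ := hun
    have h5 : n ≠ 4 := by
      rintro rfl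
      rw [h2] at hu
      exact absurd hu (by norm_num)
    refine ⟨(Cfsg.Agent.H788.Rl.res_low_ppd hn hn9 hH hS hk hkn hu hp hF hord hud).trans ?_, fun h => absurd h h5⟩
    have h6 : n ≠ 3 := by omega
    have h7 : ¬ (n = 5 ∧ k = 5) := by omega
    have h8 : ¬ (n = 7 ∧ k = 7) := by omega
    simp [C9, h5, h6, h7, h8]

theorem mulAut_u43 {K : Type} [Field K] [Fintype K] (hK : Fintype.card K = 9) :
    Nat.card (MulAut (Cfsg.PSU 4 K 3)) = 26127360 := by
  have : Fact (Nat.Prime 3) := ⟨Nat.prime_three⟩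
  have hK' : Fintype.card K = 3 ^ 2 := by rw [hK]; norm_num
  rw [S0815.result (F := K) 3 1 le_rfl (q := 3) (by norm_num) hK' 4 (by norm_num) (by norm_num)]
  have h := S0280.result hK' 4 (by norm_num)
  generalize Nat.card (Cfsg.PSU 4 K 3) = N at h ⊢
  norm_num [Finset.prod_range_succ] at h
  norm_num
  omega

/-- a prime `w ≡ 1 mod k`, `k ≥ 7` cannot divide a `7`-smooth number -/
theorem smooth {w k m a : ℕ} (hw : w.Prime) (hk : k ∣ w - 1) (hk5 : 5 ≤ k) (hk6 : k ≠ 6) (h : w ∣ m) (hm : m ∣ 210 ^ a) : False := by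
  have h1 := le_seven hw h hm
  have h2 := hw.two_le
  have h3 := Nat.le_of_dvd (by omega) hk
  have h4 : w = 7 ∨ w = 6 := by omega
  rcases h4 with rfl | rfl
  · have : k = 5 := by omega
    subst this
    omega
  · exact absurd hw (by norm_num)

theorem resBoth : Cfsg.Agent.H44.Rl.RedMid.ResBoth := by
  intro F _ _ p f n k k' hn hn9 hk hkn hk' hkn' hkk hp hF hq u u' hu hord hu' hord' H hH hS hud hud'
  have hHS : H ≤ specialLinear (Fin n) F := hH.1.le
  have hne : Nonempty (Fin n) := ⟨⟨0, by omega⟩⟩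
  have hf : 0 < f := by
    rcases Nat.eq_zero_or_pos f with h | h
    · rw [h, pow_zero] at hF
      exact absurd hF (Fintype.one_lt_card (α := F)).ne'
    · exact h
  have hordq : orderOf ((Fintype.card F : ℕ) : ZMod u) = k := by
    rw [hF, Nat.cast_pow, orderOf_pow' _ hf.ne', hord, Nat.gcd_eq_right (Dvd.intro k rfl), Nat.mul_div_cancel_left k hf]
  have hfu := not_dvd_exp hp hF hu (by omega) hord
  -- the two primes `w` (degree `n`) and `w'` (degree `n - 1`)
  obtain ⟨w, w', hw, hw', how, how', hwd, hwd'⟩ : ∃ w w' : ℕ, w.Prime ∧ w'.Prime ∧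
      orderOf ((Fintype.card F : ℕ) : ZMod w) = n ∧ orderOf ((Fintype.card F : ℕ) : ZMod w') = n - 1 ∧
      w ∣ Nat.card H ∧ w' ∣ Nat.card H := by
    rcases (by omega : (k = n ∧ k' = n - 1) ∨ (k = n - 1 ∧ k' = n)) with ⟨h1, h2⟩ | ⟨h1, h2⟩
    · exact ⟨u, u', hu, hu', by rw [hordq, h1], by rw [hord', h2], hud, hud'⟩
    · exact ⟨u', u, hu', hu, by rw [hord', h2], by rw [hordq, h1], hud', hud⟩
  have hn1 : n ∣ w - 1 := dvd_pred hw (by omega) how
  have hn2 : n - 1 ∣ w' - 1 := dvd_pred hw' (by omega) how'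
  have aux : ∀ (v : ℕ), 2 ≤ v → ∀ m : ℕ, 2 ≤ m → orderOf ((Fintype.card F : ℕ) : ZMod v) = m → ¬ v ∣ Fintype.card F - 1 := by
    intro v _ m hm h1 h2
    have h3 := dvd_of_dvd h1 (i := 1) (by rwa [pow_one])
    have := Nat.le_of_dvd one_pos h3
    omega
  have hw1 := aux w hw.two_le n (by omega) how
  have hw1' := aux w' hw'.two_le (n - 1) (by omega) how'
  have hd : ∀ {P : Subgroup (GL (Fin n) F)} (_ : IsResidualCore H P) {S : Type} [Group S]
      (_ : (P ⧸ (scalars (Fin n) F).subgroupOf P) ≃* S), w ∣ Nat.card (MulAut S) ∧ w' ∣ Nat.card (MulAut S) := by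
    intro P hP S _ e
    have h1 := pow_dvd_of_equiv hP hHS hw hw1 (a := 1) (by rwa [pow_one]) e
    have h2 := pow_dvd_of_equiv hP hHS hw' hw1' (a := 1) (by rwa [pow_one]) e
    rw [pow_one] at h1 h2
    exact ⟨h1, h2⟩
  have hw2 := hw.two_le
  have hw2' := hw'.two_le
  have hwn : n ≤ w - 1 := Nat.le_of_dvd (by omega) hn1
  have hwn' : n - 1 ≤ w' - 1 := Nat.le_of_dvd (by omega) hn2
  obtain rfl | rfl | rfl | rfl | rfl : n = 5 ∨ n = 6 ∨ n = 7 ∨ n = 8 ∨ n = 9 := by omega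
  · obtain ⟨P, p', hP, hp', hc, ⟨⟨e⟩, -⟩ | ⟨⟨e⟩, h3⟩ | ⟨⟨K, _, _, hK, ⟨e⟩⟩, -⟩⟩ := S5794.result H hH hS
    · exact ⟨rfl, bound' (by norm_num) hP hHS e Cfsg.Agent.H852.NCPsl11.card_aut.le (by norm_num)⟩
    · exfalso
      have := hq (by norm_num)
      rw [hc, h3] at this
      omega
    · exfalso
      have h3 : w ≤ 5 := le_five (a := 7) hw ((hd hP e).1.trans (Cfsg.Agent.H269.U5.card_aut_u42 hK)) (by norm_num)
      omega
  · exfalso
    obtain ⟨P, p', hP, hp', -, ⟨⟨e⟩, hc, -⟩ | ⟨⟨e⟩, hc⟩ | ⟨⟨K, _, _, hK, ⟨e⟩⟩, hc, -⟩ | ⟨⟨e⟩, hc⟩ |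
      ⟨⟨K, _, _, hK, ⟨e⟩⟩, hc, -⟩ | ⟨⟨e⟩, -⟩⟩ := S5800.result H hH hS
    · have h1 := (hd hP e).1
      rw [Cfsg.Agent.H852.NCPsl11.card_aut] at h1
      have h2 : w ∣ 2 ^ 3 * 3 * 5 * 11 := by norm_num; exact h1
      have h3 : w = 11 := by
        rcases (hw.dvd_mul).1 h2 with h4 | h4
        · exfalso
          have h5 : w ∣ 210 ^ 3 := h4.trans (by norm_num)
          have h6 := le_seven hw h5 dvd_rfl
          obtain rfl : w = 7 := by omega
          norm_num at h4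
        · exact (Nat.prime_dvd_prime_iff_eq hw (by norm_num)).1 h4
      subst h3
      omega
    · exact smooth (a := 4) hw' hn2 (by norm_num) (by norm_num) ((hd hP e).2.trans Cfsg.Agent.H900.SU4.card_mulAut_alt_seven)
        (by norm_num)
    · exact smooth (a := 8) hw' hn2 (by norm_num) (by norm_num) ((hd hP e).2.trans (mulAut_l34 hK)) (by norm_num)
    · have := hq (by norm_num)
      rw [hc] at this
      omega
    · have h1 := (hd hP e).2
      rw [mulAut_u43 hK] at h1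
      exact smooth (a := 10) hw' hn2 (by norm_num) (by norm_num) h1 (by norm_num)
    · exact big (by norm_num) hu hordq hfu hP hHS hud (c := 1) (Or.inl rfl) (by rw [pow_one]) (by omega) e
  · exfalso
    obtain ⟨P, p', hP, -, -, -, K, _, _, hK, ⟨e⟩⟩ := S5809.result H hH hS
    have h1 := (hd hP e).1
    rw [mulAut_u33 hK] at h1
    exact smooth (a := 6) hw hn1 (by norm_num) (by norm_num) h1 (by norm_num)
  · exfalso
    obtain ⟨P, p', hP, -, -, ⟨K, _, _, hK, ⟨e⟩⟩, -⟩ := S5818.result H hH hS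
    exact smooth (a := 8) hw hn1 (by norm_num) (by norm_num) ((hd hP e).1.trans (mulAut_l34 hK)) (by norm_num)
  · exfalso
    obtain ⟨P, hP, ⟨⟨e⟩, -⟩ | ⟨⟨e⟩, hc, -⟩ | ⟨K, _, _, hK, ⟨e⟩⟩⟩ := S5830.result H hH hS
    · exact smooth (a := 4) hw hn1 (by norm_num) (by norm_num) ((hd hP e).1.trans Cfsg.Agent.H900.SU4.card_mulAut_alt_seven)
        (by norm_num)
    · have h1 := (hd hP e).2
      rw [mulAut_l219] at h1
      have h2 : w' ∣ 2 ^ 3 * 3 ^ 2 * 5 * 19 := by norm_num; exact h1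
      have h3 : w' = 19 := by
        rcases (hw'.dvd_mul).1 h2 with h4 | h4
        · exfalso
          have h5 : w' ∣ 210 ^ 3 := h4.trans (by norm_num)
          have h6 := le_seven hw' h5 dvd_rfl
          omega
        · exact (Nat.prime_dvd_prime_iff_eq hw' (by norm_num)).1 h4
      subst h3
      omega
    · exact big (by norm_num) hu hordq hfu hP hHS hud (c := 2) (Or.inr rfl) hK (by omega) e

end Cfsg.Agent.H851.Rl
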